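import Mathlib
import Cfsg.Agent.Lib.Helper22.Iso.Main
import Cfsg.Agent.Lib.Helper22.Iso.Dict3
import Cfsg.Agent.Lib.Helper11.Iso.AbsA2
import Cfsg.Agent.Lib.Helper21.Iso.K3
import Cfsg.Agent.Lib.Helper29.Iso.Dict1
import Cfsg.Agent.Lib.Helper43.Iso.Gen
import Cfsg.Agent.Lib.Helper43.Iso.Res
import Cfsg.Agent.Lib.Helper65.Iso.FstarLay
import Cfsg.Agent.Lib.Helper67.Iso.SolvLayer
import Cfsg.Agent.Lib.Helper79.Iso.Dict2
import Cfsg.Agent.Lib.Helper82.Iso.AbsA3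
import Cfsg.Agent.Lib.Helper82.Iso.AbsB
import Cfsg.Agent.Lib.Helper87.Iso.Act
import Cfsg.Agent.Lib.Helper87.Iso.Back
import Cfsg.Agent.Lib.Helper90.Iso.AbsA1
import Cfsg.Agent.Lib.Helper90.Iso.FstarNil
import Cfsg.Agent.Lib.Helper91.Iso.Pmin
import Cfsg.Agent.Lib.Helper91.Iso.YT
import Cfsg.Agent.Lib.Helper94.Iso.K1
import Cfsg.Agent.Lib.Helper94.Iso.K2

/-!
# Project ISO: all packages plugged together
-/

set_option autoImplicit false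

namespace Cfsg.Agent.Lib.Helper22.Iso

universe u

theorem pkgK1_final : PkgK1.{u} := Cfsg.Agent.Lib.Helper94.Iso.pkgK1 Cfsg.Agent.Lib.Helper43.Iso.pkgRes

theorem pkgK2_final : PkgK2.{u} :=
  Cfsg.Agent.Lib.Helper94.Iso.pkgK2 Cfsg.Agent.Lib.Helper43.Iso.pkgGen Cfsg.Agent.Lib.Helper43.Iso.pkgRes

theorem pkgK3_final : PkgK3.{u} :=
  Cfsg.Agent.Lib.Helper21.Iso.pkgK3 Cfsg.Agent.Lib.Helper91.Iso.pkgPmin pkgK1_final pkgK2_final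

theorem pkgs : Pkgs.{u} where
  k1 := pkgK1_final
  k2 := pkgK2_final
  k3 := pkgK3_final
  yt := Cfsg.Agent.Lib.Helper91.Iso.pkgYT
  act := Cfsg.Agent.Lib.Helper87.Iso.pkgAct
  d1 := Cfsg.Agent.Lib.Helper29.Iso.pkgDict1
  d2 := Cfsg.Agent.Lib.Helper79.Iso.pkgDict2
  d3 := pkgDict3
  back := Cfsg.Agent.Lib.Helper87.Iso.pkgBack
  absB := Cfsg.Agent.Lib.Helper82.Iso.pkgAbsB
  absA1 := Cfsg.Agent.Lib.Helper90.Iso.pkgAbsA1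
  absA2 := Cfsg.Agent.Lib.Helper11.Iso.pkgAbsA2
  absA3 := Cfsg.Agent.Lib.Helper82.Iso.pkgAbsA3
  solv := Cfsg.Agent.Lib.Helper67.Iso.pkgSolvLayer
  fnil := Cfsg.Agent.Lib.Helper90.Iso.pkgFstarNil
  flay := Cfsg.Agent.Lib.Helper65.Iso.pkgFstarLay

end Cfsg.Agent.Lib.Helper22.Iso
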